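import Groth.Agent.Lib.EtFiltr50.Quot
import Groth.Agent.H88.RestrSheafify
import Groth.Agent.Lib.EtJ.Basic
import Groth.Agent.S0296
import Groth.Agent.S0107
import Groth.Agent.S6645
import Mathlib.GroupTheory.PGroup
import Mathlib.Algebra.Field.ZMod
import Mathlib.Algebra.Module.ZMod
import Mathlib.FieldTheory.Finiteness

/-!
# Filtrations of sheaves trivialised by a cover with group of prime power order
-/

set_option autoImplicit false

universe u

open CategoryTheory CategoryTheory.Limits AlgebraicGeometry Opposite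

noncomputable section

namespace Groth.Agent.Lib.EtFiltr50.Step

open Groth.Agent.Lib Groth.Agent.Lib.EtFiltr50

variable {T : Scheme.{u}}

/-- The finite etale cover underlying a finite etale scheme. -/
def toFEt (U : T.Etale) [hU : IsFinite U.hom] : FEt.Cat T :=
  MorphismProperty.Over.mk ⊤ U.hom ⟨hU, U.prop⟩

/-- The map to the final object. -/
def toTop (P : T.Etale) : P ⟶ EtCoh.top T :=
  MorphismProperty.Over.homMk P.hom (Category.comp_id _)

/-- A finite locally constant sheaf is invariant under isomorphism. -/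
theorem flc_of_iso {A B : EtCoh.Ab T} (e : A ≅ B) (h : EtCoh.IsFiniteLocallyConstant A) :
    EtCoh.IsFiniteLocallyConstant B := by
  obtain ⟨ι, U, hU, hi⟩ := h
  refine ⟨ι, U, hU, fun i => ?_⟩
  obtain ⟨M, _, _, ⟨f⟩⟩ := hi i
  exact ⟨M, inferInstance, inferInstance,
    ⟨(GrothendieckTopology.overPullback _ _ (U i)).mapIso e.symm ≪≫ f⟩⟩

/-- Finite constant sheaves are finite locally constant. -/
theorem flc_const (M : Type) [AddCommGroup M] [Finite M] :
    EtCoh.IsFiniteLocallyConstant (EtCoh.const T M) := by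
  refine ⟨PUnit, fun _ => EtCoh.top T, fun x => ⟨⟨⟩, x, rfl⟩, fun _ =>
    ⟨M, inferInstance, inferInstance, ⟨?_⟩⟩⟩
  exact (((Over.forget (EtCoh.top T)).pushforwardContinuousSheafificationCompatibility
    AddCommGrpCat.{u + 1} (T.smallEtaleTopology.over (EtCoh.top T)) T.smallEtaleTopology).app
      ((Functor.const _).obj (AddCommGrpCat.of (ULift.{u + 1} M)))).symm

variable {Ω : Type u} [Field Ω] [IsAlgClosed Ω] (P : T.Etale)
  (ξP : Spec (CommRingCat.of Ω) ⟶ P.left)

omit [IsAlgClosed Ω] in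
include ξP in
theorem finite_sect [PreconnectedSpace P.left] {Q : EtCoh.Ab T}
    (hQ : EtCoh.IsFiniteLocallyConstant Q) : Finite (EtCoh.sect Q P) := by
  obtain ⟨U, hU, ⟨e⟩⟩ := Groth.Agent.S0107.result Q hQ
  have := FEt.Fiber.finite_fiberObj (ξP ≫ P.hom) (toFEt U)
  refine Finite.of_injective (β := FEt.fiberObj (ξP ≫ P.hom) (toFEt U))
    (fun s => ⟨ξP ≫ (Rep.ev e P s).left, ?_⟩) fun s t h => ?_
  · exact (Category.assoc _ _ _).trans (congrArg (ξP ≫ ·) (MorphismProperty.Over.w _))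
  · exact Rep.eq_of_agree e ξP (congrArg Subtype.val h)

theorem isZero_of_subsingleton [ConnectedSpace T] {Q : EtCoh.Ab T}
    (hQ : EtCoh.IsFiniteLocallyConstant Q) (hS : Rep.Split Q P ξP)
    (h1 : Subsingleton (EtCoh.sect Q P)) : IsZero Q := by
  obtain ⟨U, hU, ⟨e⟩⟩ := Groth.Agent.S0107.result Q hQ
  rw [IsZero.iff_id_eq_zero]
  ext W s
  obtain ⟨W⟩ := W
  change (s : EtCoh.sect Q W) = (0 : EtCoh.sect Q W)
  refine Rep.eq_of_forall_agree e fun z => ?_
  let η : Spec (CommRingCat.of (AlgebraicClosure (W.left.residueField z))) ⟶ T :=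
    FEt.FullyFaithful.geomPt z ≫ W.hom
  obtain ⟨i⟩ := Groth.Agent.S0296.result η (ξP ≫ P.hom)
  have hsub : Subsingleton (FEt.fiberObj (ξP ≫ P.hom) (toFEt U)) := ⟨fun a b => by
    obtain ⟨a', ha⟩ := Rep.exists_ev_eq e hS a.1 a.2
    obtain ⟨b', hb⟩ := Rep.exists_ev_eq e hS b.1 b.2
    exact Subtype.ext (ha.symm.trans ((congrArg (fun t => ξP ≫ (Rep.ev e P t).left)
      (Subsingleton.elim a' b')).trans hb))⟩
  have : Subsingleton (FEt.fiberObj η (toFEt U)) :=
    @Equiv.subsingleton _ _ (i.app (toFEt U)).toEquiv hsub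
  have h := Subsingleton.elim (α := FEt.fiberObj η (toFEt U))
    ⟨FEt.FullyFaithful.geomPt z ≫ (Rep.ev e W s).left,
      (Category.assoc _ _ _).trans (congrArg (_ ≫ ·) (MorphismProperty.Over.w _))⟩
    ⟨FEt.FullyFaithful.geomPt z ≫ (Rep.ev e W 0).left,
      (Category.assoc _ _ _).trans (congrArg (_ ≫ ·) (MorphismProperty.Over.w _))⟩
  exact congrArg Subtype.val h

theorem surjective_app_of_epi [PreconnectedSpace P.left] {Q Q' : EtCoh.Ab T} (π : Q ⟶ Q') [Epi π]
    (hQ' : EtCoh.IsFiniteLocallyConstant Q') (hS : Rep.Split Q P ξP) :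
    Function.Surjective (π.hom.app (op P)) := by
  intro t'
  obtain ⟨U, hU, ⟨e⟩⟩ := Groth.Agent.S0107.result Q' hQ'
  have hloc : Sheaf.IsLocallySurjective π := (Sheaf.isLocallySurjective_iff_epi' _ π).2 ‹_›
  have hmem := Presheaf.imageSieve_mem T.smallEtaleTopology π.hom t'
  obtain ⟨V, g, ⟨s₀, hs₀⟩, v, hv⟩ := (EtSite.Basic.mem_topology_iff _).1 hmem (ξP.base default)
  have : Etale g.left := by
    have : Etale (g.left ≫ P.hom) := (MorphismProperty.Over.w g).symm ▸ V.prop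
    have : Etale P.hom := P.prop
    exact Etale.of_comp g.left P.hom
  obtain ⟨l, hl, -⟩ := Scheme.exists_fac_of_etale_of_isSepClosed g.left ξP v hv
  obtain ⟨N, a, b, n, t, ha, hb, hst⟩ := hS V l (by
    rw [← hl, Category.assoc, MorphismProperty.Over.w g]) s₀
  refine ⟨t, Rep.eq_of_agree e ξP ?_⟩
  have h2 : Q'.obj.map b.op (π.hom.app (op P) t) = Q'.obj.map (a ≫ g).op t' := by
    rw [op_comp, Functor.map_comp]
    refine (ConcreteCategory.congr_hom (π.hom.naturality b.op) t).symm.trans ?_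
    refine (congrArg (π.hom.app (op N)) hst.symm).trans ?_
    refine (ConcreteCategory.congr_hom (π.hom.naturality a.op) s₀).trans ?_
    exact congrArg (Q'.obj.map a.op) hs₀
  have h3 := Rep.agree_of_map_eq e b (a ≫ g) n h2
  rw [hb] at h3
  exact h3.trans (congrArg (· ≫ (Rep.ev e P t').left)
    ((Category.assoc _ _ _).symm.trans ((congrArg (· ≫ g.left) ha).trans hl)))

variable {ℓ : ℕ} [hℓ : Fact ℓ.Prime] {H : Type u} [Group H] [Finite H] (ρ : H →* Aut P)

omit [IsAlgClosed Ω] [Finite H] in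
include ξP in
/-- A nonzero sheaf killed by `ℓ` and split at `P` has a global section nonzero on `P`, when `P`
is a cover with an `ℓ`-group descending invariant maps. -/
theorem exists_section [ConnectedSpace T] [PreconnectedSpace P.left] {Q : EtCoh.Ab T}
    (hQ : EtCoh.IsFiniteLocallyConstant Q) (hk : EtCoh.KilledBy ℓ Q) (hH : IsPGroup ℓ H)
    (hdesc : ∀ U : T.Etale, IsFinite U.hom → ∀ g : P ⟶ U, (∀ h, (ρ h).hom ≫ g = g) →
      ∃ σ : EtCoh.top T ⟶ U, toTop P ≫ σ = g)
    (h1 : Nontrivial (EtCoh.sect Q P)) :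
    ∃ s₀ : EtCoh.sect Q (EtCoh.top T), Q.obj.map (toTop P).op s₀ ≠ 0 := by
  obtain ⟨U, hU, ⟨e⟩⟩ := Groth.Agent.S0107.result Q hQ
  have := finite_sect P ξP hQ
  let act : MulAction H (EtCoh.sect Q P) :=
    { smul := fun h s => Q.obj.map (ρ h⁻¹).hom.op s
      one_smul := fun s => by
        change Q.obj.map (ρ 1⁻¹).hom.op s = s
        rw [inv_one, map_one]
        change Q.obj.map (𝟙 P).op s = s
        rw [op_id, Q.obj.map_id]
        rfl
      mul_smul := fun h k s => by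
        change Q.obj.map (ρ (h * k)⁻¹).hom.op s = Q.obj.map (ρ h⁻¹).hom.op (Q.obj.map (ρ k⁻¹).hom.op s)
        rw [mul_inv_rev, map_mul]
        change Q.obj.map ((ρ h⁻¹).hom ≫ (ρ k⁻¹).hom).op s = _
        rw [op_comp, Functor.map_comp]
        rfl }
  have hdvd : ℓ ∣ Nat.card (EtCoh.sect Q P) := by
    let : Module (ZMod ℓ) (EtCoh.sect Q P) := AddCommGroup.zmodModule (hk P)
    have : Module.Finite (ZMod ℓ) (EtCoh.sect Q P) := Module.Finite.of_finite
    have hcard := @Module.natCard_eq_pow_finrank (ZMod ℓ) (EtCoh.sect Q P) inferInstance inferInstance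
      ‹Module (ZMod ℓ) (EtCoh.sect Q P)› ‹_›
    have hpos : 0 < Module.finrank (ZMod ℓ) (EtCoh.sect Q P) := Nat.pos_of_ne_zero fun h0 => by
      have := Finite.one_lt_card (α := EtCoh.sect Q P)
      rw [hcard, h0, pow_zero] at this
      exact lt_irrefl _ this
    rw [hcard, Nat.card_zmod]
    exact dvd_pow_self ℓ hpos.ne'
  obtain ⟨b, hb, hne⟩ := hH.exists_fixed_point_of_prime_dvd_card_of_fixed_point (EtCoh.sect Q P) hdvd
    (a := (0 : EtCoh.sect Q P)) (fun h => map_zero (Q.obj.map (ρ h⁻¹).hom.op).hom)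
  obtain ⟨σ, hσ⟩ := hdesc U hU (Rep.ev e P b) fun h => by
    rw [← Rep.ev_map e (ρ h).hom b]
    refine congrArg (Rep.ev e P) ?_
    have hb' : Q.obj.map (ρ h⁻¹⁻¹).hom.op b = b := hb h⁻¹
    rwa [inv_inv] at hb'
  obtain ⟨s₀, hs₀⟩ := Rep.ev_surjective e _ σ
  refine ⟨s₀, fun h0 => hne (Rep.ev_injective e P ?_).symm⟩
  rw [← h0, Rep.ev_map e (toTop P) s₀, hs₀, hσ]

/-- The homomorphism `ℤ/ℓ → Q(T)` given by a section killed by `ℓ`. -/
def lineMap (Q : EtCoh.Ab T) (s₀ : EtCoh.sect Q (EtCoh.top T)) (hs : ℓ • s₀ = 0) :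
    ZMod ℓ →+ EtCoh.sect Q (EtCoh.top T) :=
  ZMod.lift ℓ ⟨zmultiplesHom _ s₀, by
    change ((ℓ : ℤ) • s₀ : EtCoh.sect Q (EtCoh.top T)) = 0
    rw [natCast_zsmul, hs]⟩

theorem lineMap_one (Q : EtCoh.Ab T) (s₀ : EtCoh.sect Q (EtCoh.top T)) (hs : ℓ • s₀ = 0) :
    lineMap Q s₀ hs 1 = s₀ := by
  rw [show (1 : ZMod ℓ) = ((1 : ℤ) : ZMod ℓ) from Int.cast_one.symm]
  exact (ZMod.lift_coe _ _ _).trans (one_zsmul s₀)

theorem lineMap_injective (Q : EtCoh.Ab T) (s₀ : EtCoh.sect Q (EtCoh.top T)) (hs : ℓ • s₀ = 0)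
    (hne : s₀ ≠ 0) : Function.Injective (lineMap Q s₀ hs) := by
  refine (injective_iff_map_eq_zero _).2 fun a ha => ?_
  by_contra ha0
  obtain ⟨b, hb⟩ := (isUnit_iff_ne_zero.2 ha0).exists_left_inv
  refine hne ((lineMap_one Q s₀ hs).symm.trans ?_)
  rw [← hb, ← ZMod.natCast_zmod_val b, ← nsmul_eq_mul, map_nsmul, ha, nsmul_zero]

/-- The presheaf map `ℤ/ℓ ⟶ Q` given by a global section killed by `ℓ`. -/
def sectMap (Q : EtCoh.Ab T) (s₀ : EtCoh.sect Q (EtCoh.top T)) (hs : ℓ • s₀ = 0) :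
    (Functor.const T.Etaleᵒᵖ).obj (AddCommGrpCat.of (ULift.{u + 1} (ZMod ℓ))) ⟶ Q.obj where
  app W := AddCommGrpCat.ofHom ((Q.obj.map (toTop W.unop).op).hom.comp
    ((lineMap Q s₀ hs).comp AddEquiv.ulift.toAddMonoidHom))
  naturality W W' g := by
    ext x
    have : g.unop ≫ toTop W.unop = toTop W'.unop :=
      MorphismProperty.Over.Hom.ext (MorphismProperty.Over.w g.unop)
    change Q.obj.map (toTop W'.unop).op _ = Q.obj.map g (Q.obj.map (toTop W.unop).op _)
    rw [← this, op_comp, Quiver.Hom.op_unop, Functor.map_comp]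
    rfl

theorem sectMap_one (Q : EtCoh.Ab T) (s₀ : EtCoh.sect Q (EtCoh.top T)) (hs : ℓ • s₀ = 0)
    (W : T.Etale) : (sectMap Q s₀ hs).app (op W) (ULift.up 1) = Q.obj.map (toTop W).op s₀ :=
  congrArg (Q.obj.map (toTop W).op) (lineMap_one Q s₀ hs)

/-- A quotient by a line spanned by a global section. -/
theorem exists_quot [ConnectedSpace T] {Q : EtCoh.Ab T} (hQ : EtCoh.IsFiniteLocallyConstant Q)
    (hk : EtCoh.KilledBy ℓ Q) (s₀ : EtCoh.sect Q (EtCoh.top T))
    (hne : Q.obj.map (toTop P).op s₀ ≠ 0) :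
    ∃ (Q' : EtCoh.Ab T) (π : Q ⟶ Q'), Epi π ∧ EtCoh.IsFiniteLocallyConstant Q' ∧
      Nonempty (kernel π ≅ EtCoh.const T (ZMod ℓ)) ∧
      π.hom.app (op P) (Q.obj.map (toTop P).op s₀) = 0 := by
  obtain ⟨U, hU, ⟨e⟩⟩ := Groth.Agent.S0107.result Q hQ
  let ψ := sectMap Q s₀ (hk _ s₀)
  have hinj : Presheaf.IsLocallyInjective T.smallEtaleTopology ψ := by
    refine ⟨fun {W} x y hxy => ?_⟩
    obtain ⟨W⟩ := W
    by_cases hd : x = y
    · exact T.smallEtaleTopology.superset_covering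
        (fun _ f _ => by simp [Presheaf.equalizerSieve, hd]) (T.smallEtaleTopology.top_mem W)
    · have hemp : IsEmpty W.left := ⟨fun z => by
        have : PreconnectedSpace (EtCoh.top T).left := inferInstanceAs (PreconnectedSpace T)
        let g := lineMap Q s₀ (hk _ s₀)
        have hgi : Function.Injective g :=
          lineMap_injective Q s₀ (hk _ s₀) fun h0 => hne ((congrArg _ h0).trans (map_zero _))
        have heq : Q.obj.map (toTop W).op (g x.down) = Q.obj.map (toTop W).op (g y.down) := hxy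
        have h' := congrArg (fun m => FEt.FullyFaithful.geomPt z ≫ m.left)
          ((Rep.ev_map e (toTop W) (g x.down)).symm.trans
            ((congrArg (Rep.ev e W) heq).trans (Rep.ev_map e (toTop W) (g y.down))))
        refine hd (ULift.ext _ _ (hgi (Rep.eq_of_agree e
          (FEt.FullyFaithful.geomPt z ≫ (toTop W).left) ?_)))
        exact (Category.assoc _ _ _).trans (h'.trans (Category.assoc _ _ _).symm)⟩
      exact T.smallEtaleTopology.superset_covering bot_le
        ((EtSite.Basic.mem_topology_iff _).2 fun w => hemp.elim w)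
  let σ : EtCoh.const T (ZMod ℓ) ⟶ Q := (presheafToSheaf _ _).map ψ ≫
    (sheafificationAdjunction T.smallEtaleTopology AddCommGrpCat.{u + 1}).counit.app Q
  have hmono : Mono σ := by
    have : Sheaf.IsLocallyInjective ((presheafToSheaf T.smallEtaleTopology _).map ψ) :=
      (Presheaf.isLocallyInjective_presheafToSheaf_map_iff T.smallEtaleTopology ψ).2 hinj
    have := Sheaf.mono_of_isLocallyInjective ((presheafToSheaf T.smallEtaleTopology _).map ψ)
    exact @mono_comp _ _ _ _ _ ((presheafToSheaf T.smallEtaleTopology _).map ψ) this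
      ((sheafificationAdjunction T.smallEtaleTopology AddCommGrpCat.{u + 1}).counit.app Q) inferInstance
  refine ⟨cokernel σ, cokernel.π σ, inferInstance,
    ((Groth.Agent.S6645.result T).1 _ _ σ (flc_const (ZMod ℓ)) hQ).2,
    ⟨((Abelian.monoIsKernelOfCokernel _ (cokernelIsCokernel σ)).conePointUniqueUpToIso
      (kernelIsKernel (cokernel.π σ))).symm⟩, ?_⟩
  have hfac : toSheafify T.smallEtaleTopology _ ≫ σ.hom = ψ := by
    have h2 : (sheafificationAdjunction T.smallEtaleTopology AddCommGrpCat.{u + 1}).homEquiv _ _ σ = ψ :=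
      (congrArg _ ((sheafificationAdjunction T.smallEtaleTopology AddCommGrpCat.{u + 1}).homEquiv_counit
        _ _ ψ).symm).trans (Equiv.apply_symm_apply _ _)
    exact ((sheafificationAdjunction T.smallEtaleTopology AddCommGrpCat.{u + 1}).homEquiv_unit
      _ _ σ).symm.trans h2
  have h1 : Q.obj.map (toTop P).op s₀ = σ.hom.app (op P)
      ((toSheafify T.smallEtaleTopology ((Functor.const T.Etaleᵒᵖ).obj
        (AddCommGrpCat.of (ULift.{u + 1} (ZMod ℓ))))).app (op P) (ULift.up 1)) :=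
    (sectMap_one Q s₀ (hk _ s₀) P).symm.trans
      (ConcreteCategory.congr_hom (NatTrans.congr_app hfac.symm (op P)) (ULift.up 1))
  rw [h1]
  exact ConcreteCategory.congr_hom (congrArg (fun m : _ ⟶ cokernel σ => m.hom.app (op P))
    (cokernel.condition σ)) _

/-- The tower of quotients. -/
theorem exists_tower [ConnectedSpace T] [PreconnectedSpace P.left] (hH : IsPGroup ℓ H)
    (hdesc : ∀ U : T.Etale, IsFinite U.hom → ∀ g : P ⟶ U, (∀ h, (ρ h).hom ≫ g = g) →
      ∃ σ : EtCoh.top T ⟶ U, toTop P ≫ σ = g) :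
    ∀ (m : ℕ) (Q : EtCoh.Ab T), EtCoh.IsFiniteLocallyConstant Q → EtCoh.KilledBy ℓ Q →
      Rep.Split Q P ξP → Nat.card (EtCoh.sect Q P) ≤ m →
      ∃ (n : ℕ) (R : ℕ → EtCoh.Ab T) (r : ∀ i, R i ⟶ R (i + 1)), (∀ i, Epi (r i)) ∧
        Nonempty (R 0 ≅ Q) ∧ IsZero (R n) ∧
        ∀ i, i < n → Nonempty (kernel (r i) ≅ EtCoh.const T (ZMod ℓ)) := by
  intro m
  induction m with
  | zero =>
    intro Q hQ _ _ hc
    have := finite_sect P ξP hQ
    exact absurd hc (Nat.not_le.2 Nat.card_pos)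
  | succ m ih =>
    intro Q hQ hk hS hc
    rcases subsingleton_or_nontrivial (EtCoh.sect Q P) with h1 | h1
    · exact ⟨0, fun _ => Q, fun _ => 𝟙 Q, fun _ => inferInstance, ⟨Iso.refl _⟩,
        isZero_of_subsingleton P ξP hQ hS h1, fun i hi => absurd hi (Nat.not_lt_zero i)⟩
    obtain ⟨s₀, hne⟩ := exists_section P ξP ρ hQ hk hH hdesc h1
    obtain ⟨Q', π, hπ, hQ', ⟨eker⟩, hπ0⟩ := exists_quot P hQ hk s₀ hne
    have := finite_sect P ξP hQ
    have hsur := surjective_app_of_epi P ξP π hQ' hS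
    have hlt : Nat.card (EtCoh.sect Q' P) < Nat.card (EtCoh.sect Q P) := by
      refine lt_of_le_of_ne (Nat.card_le_card_of_surjective _ hsur) fun he => hne ?_
      exact ((Nat.bijective_iff_surjective_and_card _).2 ⟨hsur, he.symm⟩).1
        (hπ0.trans (map_zero _).symm)
    obtain ⟨n, R, r, hr, ⟨e'⟩, hn, hker⟩ := ih Q' hQ' (Quot.killedBy_of_epi π hk)
      (Quot.split_of_epi π hS) (by omega)
    let R' : ℕ → EtCoh.Ab T := fun i => match i with
      | 0 => Q
      | i + 1 => R i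
    let r' : ∀ i, R' i ⟶ R' (i + 1) := fun i => match i with
      | 0 => π ≫ e'.inv
      | i + 1 => r i
    refine ⟨n + 1, R', r', fun i => ?_, ⟨Iso.refl _⟩, hn, fun i hi => ?_⟩
    · match i with
      | 0 => exact (epi_comp π e'.inv : Epi (π ≫ e'.inv))
      | i + 1 => exact hr i
    · match i with
      | 0 => exact ⟨kernelCompMono π e'.inv ≪≫ eker⟩
      | i + 1 => exact hker i (Nat.lt_of_succ_lt_succ hi)

end Groth.Agent.Lib.EtFiltr50.Step
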