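import Groth.Agent.Lib.EtFiltr50.Rep
import Mathlib.CategoryTheory.Sites.EpiMono
import Mathlib.CategoryTheory.Abelian.DiagramLemmas.KernelCokernelComp

/-!
# Quotients: splitting passes to quotients; filtrations from towers of quotients
-/

set_option autoImplicit false

universe u

open CategoryTheory CategoryTheory.Limits AlgebraicGeometry Opposite

noncomputable section

namespace Groth.Agent.Lib.EtFiltr50.Quot

open Groth.Agent.Lib Groth.Agent.Lib.EtFiltr50

variable {T : Scheme.{u}}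

/-- Splitting passes to quotients. -/
theorem split_of_epi {Q Q' : EtCoh.Ab T} (π : Q ⟶ Q') [Epi π] {Ω : Type u} [Field Ω] [IsSepClosed Ω]
    {P : T.Etale} {ξP : Spec (CommRingCat.of Ω) ⟶ P.left} (hS : Rep.Split Q P ξP) :
    Rep.Split Q' P ξP := by
  intro W w hw s
  have hloc : Sheaf.IsLocallySurjective π := (Sheaf.isLocallySurjective_iff_epi' _ π).2 ‹_›
  have hmem := Presheaf.imageSieve_mem T.smallEtaleTopology π.hom s
  obtain ⟨V, g, ⟨s₀, hs₀⟩, v, hv⟩ := (EtSite.Basic.mem_topology_iff _).1 hmem (w.base default)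
  have : Etale g.left := by
    have : Etale (g.left ≫ W.hom) := (MorphismProperty.Over.w g).symm ▸ V.prop
    have : Etale W.hom := W.prop
    exact Etale.of_comp g.left W.hom
  obtain ⟨l, hl, -⟩ := Scheme.exists_fac_of_etale_of_isSepClosed g.left w v hv
  obtain ⟨N, a, b, n, t, ha, hb, hst⟩ := hS V l (by
    rw [← hw, ← hl, Category.assoc, MorphismProperty.Over.w g]) s₀
  refine ⟨N, a ≫ g, b, n, π.hom.app (op P) t, ?_, hb, ?_⟩
  · exact (Category.assoc _ _ _).symm.trans ((congrArg (· ≫ g.left) ha).trans hl)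
  · have h2 := congrArg (π.hom.app (op N)) hst
    have n1 := ConcreteCategory.congr_hom (π.hom.naturality a.op) s₀
    have n2 := ConcreteCategory.congr_hom (π.hom.naturality b.op) t
    have n3 : Q'.obj.map (a ≫ g).op s = Q'.obj.map a.op (Q'.obj.map g.op s) := by
      rw [op_comp, Functor.map_comp]; rfl
    rw [n3, ← hs₀]
    exact n1.symm.trans (h2.trans n2)

/-- Being killed by `n` passes to quotients. -/
theorem killedBy_of_epi {Q Q' : EtCoh.Ab T} (π : Q ⟶ Q') [Epi π] {n : ℕ}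
    (h : EtCoh.KilledBy n Q) : EtCoh.KilledBy n Q' := by
  have h0 : (n • 𝟙 Q : Q ⟶ Q) = 0 := by
    ext W s
    exact (h (W.unop) s)
  have h1 : π ≫ (n • 𝟙 Q' : Q' ⟶ Q') = 0 := by
    rw [Preadditive.comp_nsmul, Category.comp_id, ← Category.id_comp π, ← Preadditive.nsmul_comp, h0,
      zero_comp]
  have h2 : (n • 𝟙 Q' : Q' ⟶ Q') = 0 := (cancel_epi π).1 (h1.trans comp_zero.symm)
  intro W s
  exact ConcreteCategory.congr_hom (congrArg (fun m : Q' ⟶ Q' => m.hom.app (op W)) h2) s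

section

variable {C : Type*} [Category C] [Abelian C]

/-- For `f` an epimorphism, `kernel g` is the cokernel of `kernel f ⟶ kernel (f ≫ g)`. -/
theorem nonempty_cokernel_kernelMap_iso {X Y Z : C} (f : X ⟶ Y) (g : Y ⟶ Z) [Epi f] :
    Nonempty (cokernel (kernel.map f (f ≫ g) (𝟙 _) g (by simp)) ≅ kernel g) := by
  let S := (kernelCokernelCompSequence.snakeInput f g)
  have hex := S.L₀_exact
  have : Epi S.L₀.g := by
    rw [epi_iff_surjective_up_to_refinements]
    intro A x
    change A ⟶ kernel g at x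
    obtain ⟨A', p, hp, y, hy⟩ := surjective_up_to_refinements_of_epi f (x ≫ kernel.ι g)
    refine ⟨A', p, hp, kernel.lift (f ≫ g) y ?_, ?_⟩
    · rw [← Category.assoc, ← hy, Category.assoc, Category.assoc, kernel.condition]
      simp
    · change p ≫ x = kernel.lift (f ≫ g) y _ ≫ kernel.map (f ≫ g) g f (𝟙 _) (by simp)
      rw [← cancel_mono (kernel.ι g)]
      simp [hy]
  exact ⟨(colimit.isColimit _).coconePointUniqueUpToIso hex.gIsCokernel⟩

variable (L : C)

/-- A tower of quotients with all kernels `L` gives a filtration with all quotients `L`. -/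
theorem exists_filtration {Q : C} (n : ℕ) (R : ℕ → C) (r : ∀ i, R i ⟶ R (i + 1))
    (hr : ∀ i, Epi (r i)) (e : R 0 ≅ Q) (hn : IsZero (R n))
    (hk : ∀ i, i < n → Nonempty (kernel (r i) ≅ L)) :
    ∃ (G : ℕ → C) (φ : ∀ i, G i ⟶ G (i + 1)), IsZero (G 0) ∧ Nonempty (G n ≅ Q) ∧
      ∀ i, i < n → Mono (φ i) ∧ Nonempty (cokernel (φ i) ≅ L) := by
  let π : ∀ i, R 0 ⟶ R i := fun i =>
    Nat.rec (motive := fun i => R 0 ⟶ R i) (𝟙 _) (fun i p => p ≫ r i) i
  have hπ : ∀ i, Epi (π i) := fun i => by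
    induction i with
    | zero => exact (inferInstance : Epi (𝟙 (R 0)))
    | succ i ih => exact (epi_comp (π i) (r i))
  refine ⟨fun i => kernel (π i),
    fun i => kernel.map (π i) (π i ≫ r i) (𝟙 _) (r i) (by simp),
    isZero_kernel_of_mono (𝟙 (R 0)), ⟨?_ ≪≫ e⟩, fun i hi => ⟨?_, ?_⟩⟩
  · exact kernelIsoOfEq (hn.eq_of_tgt (π n) 0) ≪≫ kernelZeroIsoSource
  · have : Mono (kernel.map (π i) (π i ≫ r i) (𝟙 _) (r i) (by simp) ≫ kernel.ι _) := by
      simp only [kernel.map, kernel.lift_ι]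
      infer_instance
    exact mono_of_mono _ (kernel.ι _)
  · have := hπ i
    obtain ⟨e₁⟩ := nonempty_cokernel_kernelMap_iso (π i) (r i)
    obtain ⟨e₂⟩ := hk i hi
    exact ⟨e₁ ≪≫ e₂⟩

end

end Groth.Agent.Lib.EtFiltr50.Quot
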