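import Groth.Prelude.Def_EtBase
import Groth.Agent.Lib.EtSite.Basic
import Groth.Agent.Lib.FEt.Basic
import Groth.Agent.Lib.FEt.FullyFaithful

/-!
# Sections of sheaves represented by finite etale schemes
-/

set_option autoImplicit false

universe u

open CategoryTheory CategoryTheory.Limits AlgebraicGeometry Opposite

noncomputable section

namespace Groth.Agent.Lib.EtFiltr50.Rep

open Groth.Agent.Lib

variable {T : Scheme.{u}}

/-- Every section at every point over `ξ` has, after etale localisation, the same germ as a section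
over `P`. -/
def Split (Q : EtCoh.Ab T) {Ω : Type u} [Field Ω] (P : T.Etale)
    (ξP : Spec (CommRingCat.of Ω) ⟶ P.left) : Prop :=
  ∀ (W : T.Etale) (w : Spec (CommRingCat.of Ω) ⟶ W.left), w ≫ W.hom = ξP ≫ P.hom →
    ∀ s : EtCoh.sect Q W, ∃ (N : T.Etale) (a : N ⟶ W) (b : N ⟶ P)
      (n : Spec (CommRingCat.of Ω) ⟶ N.left) (t : EtCoh.sect Q P),
      n ≫ a.left = w ∧ n ≫ b.left = ξP ∧ Q.obj.map a.op s = Q.obj.map b.op t

variable {Q : EtCoh.Ab T} {U : T.Etale}
  (e : Q.obj ⋙ forget AddCommGrpCat.{u + 1} ≅ yoneda.obj U ⋙ uliftFunctor.{u + 1})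

/-- The morphism attached to a section. -/
def ev (W : T.Etale) (s : EtCoh.sect Q W) : W ⟶ U := (e.hom.app (op W) s).down

theorem ev_map {W W' : T.Etale} (g : W' ⟶ W) (s : EtCoh.sect Q W) :
    ev e W' (Q.obj.map g.op s) = g ≫ ev e W s :=
  congrArg ULift.down (ConcreteCategory.congr_hom (e.hom.naturality g.op) s)

theorem ev_injective (W : T.Etale) : Function.Injective (ev e W) := fun _ _ h =>
  (isIso_iff_bijective _).1 (inferInstance : IsIso (e.hom.app (op W))) |>.1 (ULift.ext _ _ h)

theorem ev_surjective (W : T.Etale) (φ : W ⟶ U) : ∃ s : EtCoh.sect Q W, ev e W s = φ :=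
  ⟨e.inv.app (op W) ⟨φ⟩,
    congrArg ULift.down (ConcreteCategory.congr_hom (e.inv_hom_id_app (op W)) ⟨φ⟩)⟩

variable [IsFinite U.hom]

theorem etale_hom (W : T.Etale) : Etale W.hom := W.prop

/-- Two sections over a connected scheme agree as soon as they agree at a point. -/
theorem eq_of_agree {W : T.Etale} [PreconnectedSpace W.left] {K : Type u} [Field K]
    (p : Spec (CommRingCat.of K) ⟶ W.left) {s t : EtCoh.sect Q W}
    (h : p ≫ (ev e W s).left = p ≫ (ev e W t).left) : s = t := by
  have := etale_hom U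
  have : Nonempty (Spec (CommRingCat.of K) : Scheme.{u}) := inferInstance
  exact ev_injective e W (MorphismProperty.Over.Hom.ext
    (FEt.Basic.eq_of_preconnected U.hom _ _
      ((MorphismProperty.Over.w (ev e W s)).trans (MorphismProperty.Over.w (ev e W t)).symm) p h))

/-- Two sections agree if they agree at every geometric point. -/
theorem eq_of_forall_agree {W : T.Etale} {s t : EtCoh.sect Q W}
    (h : ∀ z : W.left, FEt.FullyFaithful.geomPt z ≫ (ev e W s).left =
      FEt.FullyFaithful.geomPt z ≫ (ev e W t).left) : s = t := by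
  have := etale_hom U
  have hw := (MorphismProperty.Over.w (ev e W s)).trans (MorphismProperty.Over.w (ev e W t)).symm
  refine ev_injective e W (MorphismProperty.Over.Hom.ext
    (FEt.Basic.eq_of_eqSet_eq_univ U.hom _ _ hw (Set.eq_univ_of_forall fun z => ?_)))
  have := FEt.Basic.mem_eqSet_of_agree U.hom _ _ hw _ (h z) (IsLocalRing.closedPoint _)
  exact (FEt.FullyFaithful.point_geomPt z) ▸ this

/-- Agreement of two sections at a point from agreement after localisation. -/
theorem agree_of_map_eq {W N P : T.Etale} (a : N ⟶ W) (b : N ⟶ P) {K : Type u} [Field K]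
    (n : Spec (CommRingCat.of K) ⟶ N.left) {s : EtCoh.sect Q W} {t : EtCoh.sect Q P}
    (h : Q.obj.map a.op s = Q.obj.map b.op t) :
    (n ≫ a.left) ≫ (ev e W s).left = (n ≫ b.left) ≫ (ev e P t).left := by
  have h' := congrArg (fun m => n ≫ m.left)
    ((ev_map e a s).symm.trans ((congrArg (ev e N) h).trans (ev_map e b t)))
  exact (Category.assoc _ _ _).trans (h'.trans (Category.assoc _ _ _).symm)

/-- If `Q` splits at `P`, evaluation at the base point is onto the fibre. -/
theorem exists_ev_eq {Ω : Type u} [Field Ω] {P : T.Etale} {ξP : Spec (CommRingCat.of Ω) ⟶ P.left}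
    (hS : Split Q P ξP) (q : Spec (CommRingCat.of Ω) ⟶ U.left) (hq : q ≫ U.hom = ξP ≫ P.hom) :
    ∃ t : EtCoh.sect Q P, ξP ≫ (ev e P t).left = q := by
  obtain ⟨s, hs⟩ := ev_surjective e U (𝟙 U)
  obtain ⟨N, a, b, n, t, ha, hb, hst⟩ := hS U q hq s
  refine ⟨t, ?_⟩
  have h := agree_of_map_eq e a b n hst
  rw [ha, hb, hs] at h
  exact h.symm.trans (Category.comp_id q)

end Groth.Agent.Lib.EtFiltr50.Rep
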